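import Cfsg.Agent.H217.Odm.Real_m3
import Cfsg.Agent.H722.RealP
import Cfsg.Agent.H852.RealSuz
import Cfsg.Agent.H713.Spor.Fi22
import Cfsg.Agent.H603.SporElim
import Cfsg.Agent.Prune
set_option linter.all false
prune_inst 0x7f00000000000000000000000000000000000000000000000000000000000000000000000000000000000000000000000000000000000000000000000000000000000000000000000000000000000000003fffffffffffffffffffffffffffbeffbdffffffff
open scoped Cfsg.Agent.FastGrp

/-!
# TEAM ELUSIVE: the Fischer group `Fi22` (helper904)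

A proper subgroup of order divisible by 11 and 13 has `A13` or `Suz` at its top. These have real elements of order 11,
`Fi22` has none.
-/

set_option autoImplicit false
set_option maxRecDepth 100000

namespace Cfsg.Agent.H904.El.Fi22

open Cfsg Cfsg.Agent.OrdDiv Cfsg.Agent.H257.El Cfsg.Agent.H396 Cfsg.Agent.H722.RealP Subgroup

universe u

section alt

open Equiv

theorem alt_thirteen : HasReal 11 (alternatingGroup (Fin 13)) := by
  refine ⟨⟨c[(0 : Fin 13), 1, 2, 3, 4, 5, 6, 7, 8, 9, 10], Perm.mem_alternatingGroup.2 (by decide +kernel)⟩,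
    ⟨swap (1 : Fin 13) 10 * swap (2 : Fin 13) 9 * swap (3 : Fin 13) 8 * swap (4 : Fin 13) 7 * swap (5 : Fin 13) 6 * swap (11 : Fin 13) 12,
      Perm.mem_alternatingGroup.2 (by decide +kernel)⟩, ?_, ⟨1, ?_⟩, ?_⟩
  · rw [← Subgroup.orderOf_coe]
    have : Fact (Nat.Prime 11) := ⟨by norm_num⟩
    exact orderOf_eq_prime (by decide +kernel) (by decide +kernel)
  · rw [← Subgroup.orderOf_coe, pow_one]
    have : Fact (Nat.Prime 2) := ⟨by norm_num⟩
    exact orderOf_eq_prime (by decide +kernel) (by decide +kernel)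
  · exact Subtype.ext (by decide +kernel)

end alt

section suz

open Cfsg.Spor Cfsg.Agent.Lib.PermNet Cfsg.Agent.SporadicRecognition.SuzPhi Cfsg.Agent.SporadicRecognition.SuzOrder
open Cfsg.Agent.H852.RealRank Cfsg.Agent.H852.RealSuz

/-- a product of two elements with squares `1` of order divisible by `p` -/
theorem hasReal_of_invol {G : Type*} [Group G] [Finite G] {p : ℕ} {s t : G} (hs : s * s = 1)
    (ht : t * t = 1) (hd : p ∣ orderOf (s * t)) : HasReal p G := by
  obtain ⟨k, hk⟩ := hd
  have h0 := orderOf_pos (s * t)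
  have hk0 : k ≠ 0 := by rintro rfl; omega
  rw [hasReal_iff]
  have hs' : s⁻¹ = s := inv_eq_of_mul_eq_one_right hs
  have ht' : t⁻¹ = t := inv_eq_of_mul_eq_one_right ht
  refine ⟨(s * t) ^ k, ?_, isConj_iff.2 ⟨s, ?_⟩⟩
  · rw [orderOf_pow_of_dvd hk0 (by rw [hk]; exact dvd_mul_left _ _), hk, Nat.mul_div_cancel _ (Nat.pos_of_ne_zero hk0)]
  · rw [← conj_pow, ← inv_pow]
    congr 1
    rw [mul_inv_rev, hs', ht', ← mul_assoc, hs, one_mul]

theorem suz_real {p : ℕ} (hp : p.Prime) (w : List Suz.Gen) (x y : Suz.Gen) (i : ℕ)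
    (h1 : Nat.beq (ptWord (wd (rp (y :: pal w x) p)) i) i = true)
    (h2 : Nat.beq (ptWord (wd (rp (y :: pal w x) 1)) i) i = false) : HasReal p Spor.Suz := by
  have hc : Nat.card Spor.Suz = 448345497600 := Cfsg.Agent.NotCT.Orders.suz ⟨MulEquiv.refl _⟩
  have hfin : Finite Spor.Suz := Nat.finite_of_card_ne_zero (by rw [hc]; norm_num)
  have hsq : ∀ x : Suz.Gen, (PresentedGroup.of x : Suz) * PresentedGroup.of x = 1 := by
    intro x
    have := Cfsg.Agent.SuzThree.Basic.gen_sq x
    simpa [el] using this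
  refine hasReal_of_invol (hsq y) (pal_sq (fun x => (PresentedGroup.of x : Suz)) hsq w x) ?_
  have h3 : (PresentedGroup.of y : Suz) * ((pal w x).map fun x => (PresentedGroup.of x : Suz)).prod =
      (((y :: pal w x).map fun x => (PresentedGroup.of x : Suz)).prod) := by
    rw [List.map_cons, List.prod_cons]
  rw [h3]
  refine (dvd_of_period (σ := φ (((y :: pal w x).map fun x => (PresentedGroup.of x : Suz)).prod)) (k := 1) (i := i)
    hp ?_ ?_).trans (orderOf_map_dvd φ _)
  · rw [mul_one, suz_word_pow]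
    exact Nat.eq_of_beq_eq_true h1
  · rw [suz_word_pow]
    intro h
    rw [h, Nat.beq_refl] at h2
    exact Bool.noConfusion h2

theorem suz_eleven : HasReal 11 Spor.Suz :=
  suz_real (by norm_num) [.c, .b, .a, .d, .f, .d, .c, .f, .a, .g, .d, .c, .e, .a, .d, .f, .c, .d, .b, .d, .f, .c, .e,
    .a, .b, .d] .e .d 0 (by decide +kernel) (by decide +kernel)

end suz

/-- **Fi22** -/
theorem der (tab : OrderTable.{u}) (known : Known.{u}) {T : Type u} [Group T] (h : Spor.IsoFi22 T) {R : Subgroup T}
    (hR : R ≠ ⊤) : Der T R := by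
  have hc := NotCT.Orders.fi22 h
  have hfin : Finite T := Nat.finite_of_card_ne_zero (by rw [hc]; norm_num)
  obtain ⟨e⟩ := h
  by_contra hnd
  have S : SitA T 64561751654400 [(2, 17), (3, 9), (5, 2), (7, 1), (11, 1), (13, 1)] 13 R :=
    ⟨tab, known, hc, by decide +kernel, by norm_num, by norm_num, by norm_num, hR, hnd⟩
  obtain ⟨O, hO, N, hT⟩ := S.exists_top
  have hno : ∀ z : T, orderOf z ≠ 13 * 11 :=
    noOrd_of_cent (by norm_num) (fun x hx => H713.Spor.Fi22.cent_13 e hx) (by norm_num) (by norm_num)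
  have h11 := S.dvd_simple hT (s := 11) (by norm_num) hno (by decide +kernel)
  obtain ⟨g, hg, hgR, -⟩ := S.exists_surv hT (Sit.not_comm_of_dvd hT (by norm_num) (by norm_num) h11) [11] (by
    intro t ht
    rw [List.mem_singleton] at ht
    rw [ht]
    exact h11)
  have hl : surv 64561751654400 [(2, 17), (3, 9), (5, 2), (7, 1), (11, 1), (13, 1)] 13 [11] = [.alt 13, .suz] := by
    decide +kernel
  rw [hl] at hg
  have h11' : Fact (Nat.Prime 11) := ⟨by norm_num⟩
  have hreal : HasReal 11 N := by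
    simp only [List.mem_cons, List.not_mem_nil, or_false] at hg
    rcases hg with rfl | rfl
    · obtain ⟨f⟩ := hgR
      exact alt_thirteen.map_equiv f.symm
    · obtain ⟨f⟩ := hgR
      exact suz_eleven.map_equiv f.symm
  have hT' : HasReal 11 T := (hreal.of_subgroup.of_quotient (by norm_num)).of_subgroup
  obtain ⟨x, hx, hxc⟩ := hT'.isConj
  exact H713.Spor.Fi22.not_real e hx hxc

end Cfsg.Agent.H904.El.Fi22
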